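import Groth.Agent.WeightLib.Split
import Groth.Agent.WeightLib.Separated
import Groth.Agent.EtShLib.Noeth
import Mathlib

/-!
Étale morphisms onto a scheme finite over a base have sections étale locally on the base.
-/

set_option autoImplicit false
set_option linter.style.haveILetI false
set_option backward.isDefEq.respectTransparency false
set_option maxHeartbeats 1000000

universe u

open CategoryTheory CategoryTheory.Limits AlgebraicGeometry

noncomputable section

namespace Groth.Agent.FinSectBelow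

/-- An étale morphism with at most one geometric point over `w` is a monomorphism away from a closed set missing `w`. -/
theorem exists_closed_bad {A B W : Scheme.{u}} (c : A ⟶ B) (r : B ⟶ W) [AlgebraicGeometry.Etale c] [IsFinite c] [IsFinite r]
    (w : W) (hs : WeightLib.GSingle (c ≫ r) w) :
    ∃ Z : Set W, IsClosed Z ∧ w ∉ Z ∧ ∀ (T : Scheme.{u}) (a b : T ⟶ A), a ≫ c = b ≫ c →
      (∀ t, (a ≫ c ≫ r) t ∉ Z) → a = b := by
  let Δ := pullback.diagonal c
  let t : pullback c c ⟶ W := pullback.fst c c ≫ c ≫ r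
  haveI : IsFinite t := inferInstance
  refine ⟨t '' (Set.range Δ)ᶜ, t.isClosedMap _ Δ.isOpenEmbedding.isOpen_range.isClosed_compl, ?_, ?_⟩
  · rintro ⟨z, hz, hzw⟩
    apply hz
    let Ω : Type u := AlgebraicClosure ((pullback c c).residueField z)
    let e : (pullback c c).residueField z ⟶ CommRingCat.of Ω :=
      CommRingCat.ofHom (algebraMap ((pullback c c).residueField z) Ω)
    let ζ : Spec (CommRingCat.of Ω) ⟶ pullback c c := Spec.map e ≫ (pullback c c).fromSpecResidueField z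
    have hζ : WeightLib.img ζ = z := WeightLib.img_specMap_fromSpecResidueField z e
    have h1 : (ζ ≫ pullback.fst c c) ≫ c ≫ r = ζ ≫ t := Category.assoc _ _ _
    have h2 : (ζ ≫ pullback.snd c c) ≫ c ≫ r = ζ ≫ t := by
      simp only [t, Category.assoc]
      rw [← pullback.condition_assoc]
    haveI := hs Ω (ζ ≫ t) (by rw [WeightLib.img_comp, hζ, hzw])
    have h3 : ζ ≫ pullback.fst c c = ζ ≫ pullback.snd c c := congrArg Subtype.val
      (Subsingleton.elim (⟨_, h1⟩ : WeightLib.GPts (c ≫ r) (ζ ≫ t)) ⟨_, h2⟩)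
    have h4 : (ζ ≫ pullback.fst c c) ≫ Δ = ζ := by
      apply pullback.hom_ext
      · rw [Category.assoc, pullback.diagonal_fst, Category.comp_id]
      · rw [Category.assoc, pullback.diagonal_snd, Category.comp_id, h3]
    exact ⟨WeightLib.img (ζ ≫ pullback.fst c c), by rw [← WeightLib.img_comp, h4, hζ]⟩
  · intro T a b hab hT
    let m : T ⟶ pullback c c := pullback.lift a b hab
    have hr : Set.range m ⊆ Set.range Δ := by
      rintro _ ⟨x, rfl⟩
      by_contra hn
      refine hT x ⟨m x, hn, ?_⟩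
      rw [← Scheme.Hom.comp_apply, pullback.lift_fst_assoc]
    have h := IsOpenImmersion.lift_fac Δ m hr
    calc a = m ≫ pullback.fst c c := (pullback.lift_fst _ _ _).symm
      _ = IsOpenImmersion.lift Δ m hr := by
          conv_lhs => rw [← h]
          rw [Category.assoc, pullback.diagonal_fst, Category.comp_id]
      _ = m ≫ pullback.snd c c := by
          conv_rhs => rw [← h]
          rw [Category.assoc, pullback.diagonal_snd, Category.comp_id]
      _ = b := pullback.lift_snd _ _ _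

/-- An étale morphism onto the fibre of a finite morphism has a section after an étale base change. -/
theorem exists_section_below {S S' V : Scheme.{u}} (π : S' ⟶ S) [IsFinite π] (h : V ⟶ S')
    [AlgebraicGeometry.Etale h] (s : S) (hcov : ∀ x, π x = s → ∃ v, h v = x) :
    ∃ (U : Scheme.{u}) (g : U ⟶ S) (_ : AlgebraicGeometry.Etale g) (u : U), g u = s ∧
      ∃ τ : pullback g π ⟶ V, τ ≫ h = pullback.snd g π := by
  classical
  choose v hv using fun x : {x : S' // π x = s} => hcov x.1 x.2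
  haveI : Finite {x : S' // π x = s} := (π.finite_preimage_singleton s).to_subtype
  haveI : LocallyQuasiFinite h := Groth.Agent.EtShLib.locallyQuasiFinite_of_etale h
  obtain ⟨W₁, g, hg, w, hw, n, Wp, hfin, hsingle, -, hcovW⟩ :=
    WeightLib.exists_split (h ≫ π) s (Set.range v) (Set.finite_range v)
  haveI := hg
  let Q := pullback g π
  let r : Q ⟶ W₁ := pullback.fst g π
  let a : pullback (h ≫ π) g ⟶ V := pullback.fst (h ≫ π) g
  let c₀ : pullback (h ≫ π) g ⟶ Q := pullback.lift (pullback.snd (h ≫ π) g) (a ≫ h) (by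
    rw [← pullback.condition, Category.assoc])
  have hc₀r : c₀ ≫ r = pullback.snd (h ≫ π) g := pullback.lift_fst _ _ _
  have hc₀q : c₀ ≫ pullback.snd g π = a ≫ h := pullback.lift_snd _ _ _
  have sq : IsPullback a c₀ h (pullback.snd g π) := by
    refine IsPullback.of_bot ?_ hc₀q.symm (IsPullback.of_hasPullback g π).flip
    rw [hc₀r]
    exact IsPullback.of_hasPullback (h ≫ π) g
  haveI : AlgebraicGeometry.Etale c₀ := MorphismProperty.of_isPullback sq ‹AlgebraicGeometry.Etale h›
  let c : ∀ i, (Wp i).toScheme ⟶ Q := fun i => (Wp i).ι ≫ c₀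
  have hcr : ∀ i, c i ≫ r = (Wp i).ι ≫ pullback.snd (h ≫ π) g := fun i => by
    simp only [c, Category.assoc, hc₀r]
  haveI hcE : ∀ i, AlgebraicGeometry.Etale (c i) := fun i => inferInstance
  haveI hcF : ∀ i, IsFinite (c i) := fun i => by
    haveI : IsFinite (c i ≫ r) := by rw [hcr]; exact hfin i
    exact IsFinite.of_comp (c i) r
  choose Z hZc hZw hZ using fun i => exists_closed_bad (c i) r w (by rw [hcr]; exact hsingle i)
  let R : Fin n → Set Q := fun i => Set.range (c i)
  have hRo : ∀ i, IsOpen (R i) := fun i => (c i).isOpenMap.isOpen_range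
  have hRc : ∀ i, IsClosed (R i) := fun i => (c i).isClosedMap.isClosed_range
  let D : Set W₁ := r '' (⋃ i, R i)ᶜ
  have hDc : IsClosed D := r.isClosedMap _ (isOpen_iUnion hRo).isClosed_compl
  have hwD : w ∉ D := by
    rintro ⟨q, hq, hqw⟩
    have hx : π (pullback.snd g π q) = s := by
      rw [← Scheme.Hom.comp_apply, ← pullback.condition, Scheme.Hom.comp_apply]
      exact (congrArg g hqw).trans hw
    obtain ⟨p', hp₁, hp₂⟩ := Scheme.Pullback.exists_preimage_pullback (f := h) (g := pullback.snd g π)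
      (v ⟨_, hx⟩) q (hv ⟨_, hx⟩)
    let p := sq.isoPullback.inv p'
    have ha : a p = v ⟨_, hx⟩ := by
      rw [← Scheme.Hom.comp_apply, sq.isoPullback_inv_fst, hp₁]
    have hc : c₀ p = q := by
      rw [← Scheme.Hom.comp_apply, sq.isoPullback_inv_snd, hp₂]
    obtain ⟨i, hi⟩ := hcovW p (by rw [← hc₀r, Scheme.Hom.comp_apply, hc]; exact hqw) ⟨_, ha.symm⟩
    exact hq (Set.mem_iUnion.2 ⟨i, ⟨⟨p, hi⟩, hc⟩⟩)
  let U : W₁.Opens := ⟨(⋃ i, Z i)ᶜ ∩ Dᶜ, ((isClosed_iUnion_of_finite hZc).isOpen_compl).inter hDc.isOpen_compl⟩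
  have hwU : w ∈ U := ⟨fun hm => by obtain ⟨i, hi⟩ := Set.mem_iUnion.1 hm; exact hZw i hi, hwD⟩
  refine ⟨U, U.ι ≫ g, inferInstance, ⟨w, hwU⟩, ?_, ?_⟩
  · rw [Scheme.Hom.comp_apply]; exact hw
  -- the pieces
  let O : Fin n → Q.Opens := fun i => ⟨(R i ∩ ⋂ j : Fin n, ⋂ (_ : j < i), (R j)ᶜ) ∩ r ⁻¹' (U : Set W₁),
    ((hRo i).inter (isOpen_iInter_of_finite fun j => isOpen_iInter_of_finite fun _ => (hRc j).isOpen_compl)).inter
      (U.isOpen.preimage r.continuous)⟩
  haveI hiso : ∀ i, IsIso (c i ∣_ O i) := fun i => by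
    haveI : Mono (c i ∣_ O i) := ⟨fun {T} a' b' hab => by
      rw [← cancel_mono ((c i ⁻¹ᵁ O i).ι)]
      refine hZ i T _ _ ?_ fun t ht => ?_
      · have := congrArg (· ≫ (O i).ι) hab
        simpa only [Category.assoc, morphismRestrict_ι] using this
      · have hm : c i (((c i ⁻¹ᵁ O i).ι) (a' t)) ∈ O i := (a' t).2
        refine hm.2.1 (Set.mem_iUnion.2 ⟨i, ?_⟩)
        simpa only [Scheme.Hom.comp_apply] using ht⟩
    haveI : AlgebraicGeometry.Etale (c i ∣_ O i) := inferInstance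
    haveI : IsOpenImmersion (c i ∣_ O i) := IsOpenImmersion.of_flat_of_mono _
    haveI : Surjective (c i ∣_ O i) := ⟨fun q => by
      obtain ⟨p, hp⟩ := q.2.1.1
      refine ⟨⟨p, show c i p ∈ O i from hp.symm ▸ q.2⟩, Subtype.ext ?_⟩
      rw [morphismRestrict_base]
      exact hp⟩
    exact (isIso_iff_isOpenImmersion_and_surjective _).2 ⟨inferInstance, inferInstance⟩
  let σ : ∀ i, (O i).toScheme ⟶ V := fun i => inv (c i ∣_ O i) ≫ (c i ⁻¹ᵁ O i).ι ≫ (Wp i).ι ≫ a
  have hσ : ∀ i, σ i ≫ h = (O i).ι ≫ pullback.snd g π := fun i => by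
    simp only [σ, Category.assoc]
    rw [IsIso.inv_comp_eq, ← Category.assoc (c i ∣_ O i), morphismRestrict_ι]
    simp only [c, Category.assoc, hc₀q]
  let m : pullback (U.ι ≫ g) π ⟶ Q := pullback.lift (pullback.fst _ _ ≫ U.ι) (pullback.snd _ _) (by
    rw [Category.assoc, pullback.condition])
  have hcov' : TopologicalSpace.IsOpenCover fun i => m ⁻¹ᵁ O i := by
    refine TopologicalSpace.IsOpenCover.mk (eq_top_iff.2 fun q _ => ?_)
    have hr : r (m q) ∈ U := by
      rw [← Scheme.Hom.comp_apply, pullback.lift_fst, Scheme.Hom.comp_apply]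
      exact (pullback.fst (U.ι ≫ g) π q).2
    have hex : ∃ i, m q ∈ R i := by
      by_contra hne
      exact hr.2 ⟨m q, fun hm => hne (Set.mem_iUnion.1 hm), rfl⟩
    have hne : (Finset.univ.filter fun i => m q ∈ R i).Nonempty :=
      hex.imp fun i hi => Finset.mem_filter.2 ⟨Finset.mem_univ i, hi⟩
    let i := (Finset.univ.filter fun i => m q ∈ R i).min' hne
    refine TopologicalSpace.Opens.mem_iSup.2 ⟨i, ⟨(Finset.mem_filter.1 (Finset.min'_mem _ hne)).2, ?_⟩, hr⟩
    simp only [Set.mem_iInter, Set.mem_compl_iff]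
    intro j hj hjR
    exact absurd (Finset.min'_le _ j (Finset.mem_filter.2 ⟨Finset.mem_univ j, hjR⟩)) (not_le.2 hj)
  let 𝒰 := (pullback (U.ι ≫ g) π).openCoverOfIsOpenCover _ hcov'
  let f : ∀ i, 𝒰.X i ⟶ V := fun i => (m ∣_ O i) ≫ σ i
  have hf : ∀ i j, pullback.fst (𝒰.f i) (𝒰.f j) ≫ f i = pullback.snd (𝒰.f i) (𝒰.f j) ≫ f j := by
    intro i j
    by_cases hij : i = j
    · subst hij
      rw [show pullback.fst (𝒰.f i) (𝒰.f i) = pullback.snd (𝒰.f i) (𝒰.f i) from
        (cancel_mono (𝒰.f i)).1 pullback.condition]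
    · haveI : IsEmpty ↥(pullback (𝒰.f i) (𝒰.f j)) := ⟨fun z => by
        have e := congrArg (fun k => k z) (pullback.condition (f := 𝒰.f i) (g := 𝒰.f j))
        simp only [Scheme.Hom.comp_apply] at e
        let y₁ := pullback.fst (𝒰.f i) (𝒰.f j) z
        let y₂ := pullback.snd (𝒰.f i) (𝒰.f j) z
        have hi : m (𝒰.f i y₁) ∈ O i := y₁.2
        have hj : m (𝒰.f j y₂) ∈ O j := y₂.2
        rw [show 𝒰.f i y₁ = 𝒰.f j y₂ from e] at hi
        rcases lt_or_gt_of_ne (α := Fin n) (a := i) (b := j) hij with hlt | hgt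
        · exact Set.mem_iInter.1 (Set.mem_iInter.1 hj.1.2 i) hlt hi.1.1
        · exact Set.mem_iInter.1 (Set.mem_iInter.1 hi.1.2 j) hgt hj.1.1⟩
      exact isInitialOfIsEmpty.hom_ext _ _
  refine ⟨𝒰.glueMorphisms f hf, 𝒰.hom_ext _ _ fun i => ?_⟩
  rw [Scheme.Cover.ι_glueMorphisms_assoc]
  show ((m ∣_ O i) ≫ σ i) ≫ h = (m ⁻¹ᵁ O i).ι ≫ pullback.snd (U.ι ≫ g) π
  rw [Category.assoc, hσ, morphismRestrict_ι_assoc, pullback.lift_snd]

end Groth.Agent.FinSectBelow
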